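import Groth.Agent.LGLib.AzModules
import Groth.Agent.AzumayaLib.End
import Groth.Agent.AzumayaLib.Descent

/-!
# Cancellation of Azumaya algebras over LG-rings
-/

namespace LGLib

open scoped TensorProduct

universe u v v' w w'

variable {R : Type u} [CommRing R]

section Act

variable (A : Type v) [Ring A] [Algebra R A] (P : Type w) [AddCommGroup P] [Module R P]

/-- The action of `A ⊗ End P` on `A ⊗ P`. -/
noncomputable def act : A ⊗[R] Module.End R P →ₐ[R] Module.End R (A ⊗[R] P) :=
  (Module.endTensorEndAlgHom (R := R) (S := R) (A := R) (M := A) (N := P)).comp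
    (Algebra.TensorProduct.map (Algebra.lmul R A) (AlgHom.id R _))

lemma act_tmul (a a' : A) (f : Module.End R P) (p : P) :
    act A P (a ⊗ₜ[R] f) (a' ⊗ₜ[R] p) = (a * a') ⊗ₜ[R] f p := rfl

variable {P}

/-- Right multiplication on the first factor. -/
noncomputable def rho (c : A) : Module.End R (A ⊗[R] P) := LinearMap.rTensor P (LinearMap.mulRight R c)

lemma rho_tmul (c a : A) (p : P) : rho A c (a ⊗ₜ[R] p) = (a * c) ⊗ₜ[R] p := rfl

lemma rho_mul (c c' : A) : rho (R := R) A (P := P) (c * c') = (rho A c') ∘ₗ (rho A c) :=
  TensorProduct.ext' fun a p => by simp [rho_tmul, mul_assoc]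

lemma rho_one : rho (R := R) A (P := P) (1 : A) = LinearMap.id :=
  TensorProduct.ext' fun a p => by simp [rho_tmul]

lemma rho_add (c c' : A) : rho (R := R) A (P := P) (c + c') = rho A c + rho A c' :=
  TensorProduct.ext' fun a p => by simp [rho_tmul, mul_add, TensorProduct.add_tmul]

lemma rho_smul (r : R) (c : A) : rho (R := R) A (P := P) (r • c) = r • rho A c :=
  TensorProduct.ext' fun a p => by simp [rho_tmul, TensorProduct.smul_tmul']

lemma rho_comm (c : A) (T : A ⊗[R] Module.End R P) (x : A ⊗[R] P) :
    rho A c (act A P T x) = act A P T (rho A c x) := by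
  induction T using TensorProduct.induction_on with
  | zero => simp
  | add T T' h h' => simp [h, h']
  | tmul a f =>
    induction x using TensorProduct.induction_on with
    | zero => simp
    | add x y h h' => simp [h, h']
    | tmul a' p => simp [rho_tmul, act_tmul, mul_assoc]

/-- The coefficient along a functional. -/
noncomputable def coef (φ : Module.Dual R P) : A ⊗[R] P →ₗ[R] A :=
  (TensorProduct.rid R A).toLinearMap ∘ₗ LinearMap.lTensor A φ

lemma coef_tmul (φ : Module.Dual R P) (a : A) (p : P) : coef A φ (a ⊗ₜ[R] p) = φ p • a := rfl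

variable (m : P) (φ : Module.Dual R P) (hφ : φ m = 1)
include hφ

lemma coef_rho (c : A) : coef A φ (rho A c (1 ⊗ₜ[R] m)) = c := by
  rw [rho_tmul, coef_tmul, hφ, one_smul, one_mul]

/-- An endomorphism commuting with the action is a right multiplication. -/
lemma eq_rho (h : Module.End R (A ⊗[R] P)) (hc : ∀ T x, h (act A P T x) = act A P T (h x)) :
    h = rho A (coef A φ (h (1 ⊗ₜ[R] m))) := by
  refine TensorProduct.ext' fun a p => ?_
  have h1 : a ⊗ₜ[R] p = act A P (a ⊗ₜ[R] φ.smulRight p) ((1 : A) ⊗ₜ[R] m) := by
    rw [act_tmul, mul_one, LinearMap.smulRight_apply, hφ, one_smul]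
  rw [rho_tmul]
  conv_lhs => rw [h1, hc]
  generalize h ((1 : A) ⊗ₜ[R] m) = z
  induction z using TensorProduct.induction_on with
  | zero => simp
  | add x y hx hy => simp [hx, hy, mul_add, TensorProduct.add_tmul]
  | tmul a' q =>
    rw [act_tmul, coef_tmul, LinearMap.smulRight_apply, TensorProduct.tmul_smul, mul_smul_comm,
      TensorProduct.smul_tmul']

end Act

section Rank

lemma rankAtStalk_end_aux (P : Type w) [AddCommGroup P] [Module R P] [Module.Finite R P] [Module.Projective R P]
    (S : Type u) [CommRing S] [Algebra R S] [Module.Flat R S] [IsLocalRing S] (q : PrimeSpectrum S) :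
    Module.rankAtStalk (R := R) (Module.End R P) (q.comap (algebraMap R S)) =
      Module.rankAtStalk (R := R) P (q.comap (algebraMap R S)) *
        Module.rankAtStalk (R := R) P (q.comap (algebraMap R S)) := by
  haveI : Module.Finite R (Module.End R P) := Module.Finite.equiv (dualTensorHomEquiv R P P)
  haveI : Module.Projective R (Module.End R P) := Module.Projective.of_equiv (dualTensorHomEquiv R P P)
  haveI : Module.FinitePresentation R P := Module.finitePresentation_of_projective R P
  haveI : Module.Free S (S ⊗[R] P) := Module.free_of_flat_of_isLocalRing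
  have hbc : IsBaseChange S (LinearMap.baseChangeHom R S P P) := Module.FinitePresentation.isBaseChange_map R P P S
  haveI : Module.Free S (S ⊗[R] (P →ₗ[R] P)) := Module.free_of_flat_of_isLocalRing
  have h1 := Module.rankAtStalk_baseChange (R := R) (M := P →ₗ[R] P) (S := S) q
  have h2 := Module.rankAtStalk_baseChange (R := R) (M := P) (S := S) q
  rw [← h2]
  refine Eq.trans h1.symm ?_
  simp only [Module.rankAtStalk_eq_finrank_of_free, Pi.natCast_apply, Nat.cast_id]
  rw [LinearEquiv.finrank_eq hbc.equiv]
  exact Module.finrank_linearMap S S (S ⊗[R] P) (S ⊗[R] P)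

lemma rankAtStalk_end (P : Type w) [AddCommGroup P] [Module R P] [Module.Finite R P] [Module.Projective R P]
    (m : Ideal R) [m.IsMaximal] :
    Module.rankAtStalk (R := R) (Module.End R P) ⟨m, inferInstance⟩ =
      Module.rankAtStalk (R := R) P ⟨m, inferInstance⟩ * Module.rankAtStalk (R := R) P ⟨m, inferInstance⟩ := by
  have h := rankAtStalk_end_aux (R := R) P (Localization.AtPrime m) (IsLocalRing.closedPoint _)
  have hq : (IsLocalRing.closedPoint (Localization.AtPrime m)).comap (algebraMap R (Localization.AtPrime m)) =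
      ⟨m, inferInstance⟩ := PrimeSpectrum.ext (Localization.AtPrime.comap_maximalIdeal (I := m))
  rw [hq] at h
  exact h

end Rank

section Cancel

variable (A : Type v) [Ring A] [Algebra R A] [IsAzumaya R A]
variable (B : Type v') [Ring B] [Algebra R B] [IsAzumaya R B]
variable (P : Type w) [AddCommGroup P] [Module R P] [Module.Finite R P] [Module.Projective R P] [FaithfulSMul R P]
variable (Q : Type w') [AddCommGroup Q] [Module R Q] [Module.Finite R Q] [Module.Projective R Q] [FaithfulSMul R Q]

theorem nonempty_algEquiv (hR : LGRing.IsLGRing R)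
    (hA : ∀ (m : Ideal R) [m.IsMaximal],
      Module.rankAtStalk (R := R) A ⟨m, inferInstance⟩ = Module.rankAtStalk (R := R) B ⟨m, inferInstance⟩)
    (hP : ∀ (m : Ideal R) [m.IsMaximal],
      Module.rankAtStalk (R := R) P ⟨m, inferInstance⟩ = Module.rankAtStalk (R := R) Q ⟨m, inferInstance⟩)
    (e : A ⊗[R] Module.End R P ≃ₐ[R] B ⊗[R] Module.End R Q) : Nonempty (A ≃ₐ[R] B) := by
  obtain ⟨m, φ, hφ⟩ := exists_unimodular (M := P) hR
  obtain ⟨n, χ, hχ⟩ := exists_unimodular (M := Q) hR
  let C := B ⊗[R] Module.End R Q
  haveI : IsAzumaya R (Module.End R Q) := AzumayaLib.isAzumaya_end Q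
  haveI : IsAzumaya R C := AzumayaLib.isAzumaya_tensor
  let actA : C →ₐ[R] Module.End R (A ⊗[R] P) := (act A P).comp e.symm.toAlgHom
  letI : Module C (B ⊗[R] Q) := Module.compHom _ (act B Q).toRingHom
  letI : Module C (A ⊗[R] P) := Module.compHom _ actA.toRingHom
  haveI : IsScalarTower R C (B ⊗[R] Q) := ⟨fun c x y => LinearMap.congr_fun (map_smul (act B Q) c x) y⟩
  haveI : IsScalarTower R C (A ⊗[R] P) := ⟨fun c x y => LinearMap.congr_fun (map_smul actA c x) y⟩
  -- both modules are direct summands of the algebra
  let iX : B ⊗[R] Q →ₗ[C] C :=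
    { toFun := LinearMap.lTensor B (LinearMap.smulRightₗ (R := R) χ)
      map_add' := map_add _
      map_smul' := fun T x => by
        show LinearMap.lTensor B _ (act B Q T x) = T * LinearMap.lTensor B _ x
        induction T using TensorProduct.induction_on with
        | zero => simp
        | add T T' h h' => simp [h, h', add_mul]
        | tmul b f =>
          induction x using TensorProduct.induction_on with
          | zero => simp
          | add x y h h' => simp [h, h', mul_add]
          | tmul b' q =>
            rw [act_tmul, LinearMap.lTensor_tmul, LinearMap.lTensor_tmul, Algebra.TensorProduct.tmul_mul_tmul]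
            congr 1
            ext y
            simp }
  let pX : C →ₗ[C] B ⊗[R] Q := LinearMap.toSpanSingleton C _ ((1 : B) ⊗ₜ[R] n)
  have hX : ∀ x, pX (iX x) = x := fun x => by
    show act B Q (LinearMap.lTensor B _ x) ((1 : B) ⊗ₜ[R] n) = x
    induction x using TensorProduct.induction_on with
    | zero => simp
    | add x y h h' => simp [h, h']
    | tmul b q => simp [act_tmul, hχ]
  let iY : A ⊗[R] P →ₗ[C] C :=
    { toFun := fun x => e (LinearMap.lTensor A (LinearMap.smulRightₗ (R := R) φ) x)
      map_add' := fun x y => by rw [map_add, map_add]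
      map_smul' := fun T x => by
        show e (LinearMap.lTensor A _ (act A P (e.symm T) x)) = T * e (LinearMap.lTensor A _ x)
        conv_rhs => rw [← e.apply_symm_apply T, ← map_mul]
        congr 1
        induction e.symm T using TensorProduct.induction_on with
        | zero => simp
        | add T T' h h' => simp [h, h', add_mul]
        | tmul b f =>
          induction x using TensorProduct.induction_on with
          | zero => simp
          | add x y h h' => simp [h, h', mul_add]
          | tmul b' q =>
            rw [act_tmul, LinearMap.lTensor_tmul, LinearMap.lTensor_tmul, Algebra.TensorProduct.tmul_mul_tmul]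
            congr 1
            ext y
            simp }
  let pY : C →ₗ[C] A ⊗[R] P := LinearMap.toSpanSingleton C _ ((1 : A) ⊗ₜ[R] m)
  have hY : ∀ x, pY (iY x) = x := fun x => by
    show act A P (e.symm (e (LinearMap.lTensor A _ x))) ((1 : A) ⊗ₜ[R] m) = x
    rw [e.symm_apply_apply]
    induction x using TensorProduct.induction_on with
    | zero => simp
    | add x y h h' => simp [h, h']
    | tmul b q => simp [act_tmul, hφ]
  haveI : Module.Finite C (B ⊗[R] Q) := Module.Finite.of_surjective pX fun x => ⟨_, hX x⟩
  haveI : Module.Finite C (A ⊗[R] P) := Module.Finite.of_surjective pY fun x => ⟨_, hY x⟩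
  haveI : Module.Projective C (B ⊗[R] Q) := Module.Projective.of_split iX pX (LinearMap.ext hX)
  haveI : Module.Projective C (A ⊗[R] P) := Module.Projective.of_split iY pY (LinearMap.ext hY)
  obtain ⟨f⟩ := nonempty_linearEquiv_of_rank (A := C) (M := B ⊗[R] Q) (N := A ⊗[R] P) hR fun I _ => by
    rw [Module.rankAtStalk_tensorProduct, Module.rankAtStalk_tensorProduct, Pi.mul_apply, Pi.mul_apply, hA I, hP I]
  let fR : (B ⊗[R] Q) ≃ₗ[R] (A ⊗[R] P) := f.restrictScalars R
  have hf : ∀ (T : C) x, fR (act B Q T x) = act A P (e.symm T) (fR x) := fun T x => f.map_smul T x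
  have hf' : ∀ (T : C) y, fR.symm (act A P (e.symm T) y) = act B Q T (fR.symm y) := fun T y => f.symm.map_smul T y
  let g : A → B := fun a => coef B χ (fR.symm (rho A a (fR ((1 : B) ⊗ₜ[R] n))))
  have hg : ∀ a, fR.symm.toLinearMap ∘ₗ rho A a ∘ₗ fR.toLinearMap = rho B (g a) := fun a =>
    eq_rho B n χ hχ _ fun T x => by
      simp only [LinearMap.comp_apply, LinearEquiv.coe_coe]
      rw [hf, rho_comm, hf']
  have hgapply : ∀ a b, rho B (g a) b = fR.symm (rho A a (fR b)) := fun a b =>
    (LinearMap.congr_fun (hg a) b).symm
  refine ⟨AlgEquiv.ofBijective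
    { toFun := g
      map_one' := by simp [g, rho_one, coef_tmul, hχ]
      map_mul' := fun a a' => by
        show coef B χ _ = _
        rw [rho_mul, LinearMap.comp_apply]
        have : fR.symm (rho A a' (rho A a (fR ((1 : B) ⊗ₜ[R] n)))) =
            rho B (g a') (rho B (g a) ((1 : B) ⊗ₜ[R] n)) := by
          rw [hgapply, hgapply, LinearEquiv.apply_symm_apply]
        rw [this, ← LinearMap.comp_apply (f := rho B (g a')), ← rho_mul, coef_rho B n χ hχ]
      map_zero' := by
        have : rho (R := R) A (P := P) (0 : A) = 0 := TensorProduct.ext' fun a p => by simp [rho_tmul]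
        simp [g, this]
      map_add' := fun a a' => by simp [g, rho_add, map_add]
      commutes' := fun r => by
        show coef B χ _ = _
        rw [Algebra.algebraMap_eq_smul_one, Algebra.algebraMap_eq_smul_one, rho_smul, rho_one]
        simp [coef_tmul, hχ] } ⟨?_, ?_⟩⟩
  · intro a a' h
    have h' : rho (R := R) B (P := Q) (g a) = rho B (g a') := congrArg _ h
    rw [← hg, ← hg] at h'
    have : rho A (P := P) a = rho A a' := LinearMap.ext fun x => by
      have := LinearMap.congr_fun h' (fR.symm x)
      simpa using this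
    rw [← coef_rho A m φ hφ a, this, coef_rho A m φ hφ]
  · intro b
    refine ⟨coef A φ (fR (rho B b (fR.symm ((1 : A) ⊗ₜ[R] m)))), ?_⟩
    have h1 := eq_rho A m φ hφ (fR.toLinearMap ∘ₗ rho B b ∘ₗ fR.symm.toLinearMap) fun T x => by
      obtain ⟨T, rfl⟩ := e.symm.surjective T
      simp only [LinearMap.comp_apply, LinearEquiv.coe_coe]
      rw [hf', rho_comm, hf]
    show coef B χ _ = b
    rw [show rho A (coef A φ (fR (rho B b (fR.symm ((1 : A) ⊗ₜ[R] m))))) =
      fR.toLinearMap ∘ₗ rho B b ∘ₗ fR.symm.toLinearMap from h1.symm]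
    simp [coef_tmul, hχ, rho_tmul]

end Cancel

end LGLib
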