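import Groth.Agent.LGLib.AzCancel

/-!
# Consequences: cancellation of Azumaya algebras and of their modules
-/

namespace LGLib

open scoped TensorProduct

universe u v v' v'' w w'

variable {R : Type u} [CommRing R]

lemma rankAtStalk_pos (L : Type w) [AddCommGroup L] [Module R L] [Module.Finite R L]
    [Module.Projective R L] [FaithfulSMul R L] (p : PrimeSpectrum R) : 0 < Module.rankAtStalk (R := R) L p := by
  rw [Module.rankAtStalk_pos_iff_mem_support, Module.support_eq_zeroLocus]
  intro r hr
  rw [SetLike.mem_coe, Module.mem_annihilator] at hr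
  rw [show r = 0 from eq_of_smul_eq_smul (α := L) fun x => by rw [hr x, zero_smul]]
  exact zero_mem _

variable (A : Type v) [Ring A] [Algebra R A] [IsAzumaya R A]
variable (B : Type v') [Ring B] [Algebra R B] [IsAzumaya R B]

theorem cancel_endTensor (hR : LGRing.IsLGRing R)
    (hdeg : ∀ p : PrimeSpectrum R, Module.rankAtStalk (R := R) A p = Module.rankAtStalk (R := R) B p)
    (P : Type w) [AddCommGroup P] [Module R P] [Module.Finite R P] [Module.Projective R P] [FaithfulSMul R P]
    (Q : Type w') [AddCommGroup Q] [Module R Q] [Module.Finite R Q] [Module.Projective R Q] [FaithfulSMul R Q]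
    (e : A ⊗[R] Module.End R P ≃ₐ[R] B ⊗[R] Module.End R Q) : Nonempty (A ≃ₐ[R] B) := by
  haveI := AzumayaLib.isAzumaya_end (R := R) P
  haveI := AzumayaLib.isAzumaya_end (R := R) Q
  refine nonempty_algEquiv A B P Q hR (fun m _ => hdeg _) (fun m _ => ?_) e
  have h := congrFun (Module.rankAtStalk_eq_of_equiv e.toLinearEquiv) ⟨m, inferInstance⟩
  rw [Module.rankAtStalk_tensorProduct, Module.rankAtStalk_tensorProduct, Pi.mul_apply, Pi.mul_apply,
    rankAtStalk_end, rankAtStalk_end, hdeg] at h
  exact Nat.mul_self_inj.1 (Nat.eq_of_mul_eq_mul_left (rankAtStalk_pos B _) h)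

theorem cancel_matrix (hR : LGRing.IsLGRing R) (n : ℕ) (hn : 0 < n)
    (e : Matrix (Fin n) (Fin n) A ≃ₐ[R] Matrix (Fin n) (Fin n) B) : Nonempty (A ≃ₐ[R] B) := by
  haveI : FaithfulSMul R (Fin n → R) := ⟨fun h => by simpa using congrFun (h fun _ => 1) ⟨0, hn⟩⟩
  let m : Matrix (Fin n) (Fin n) R ≃ₐ[R] Module.End R (Fin n → R) := Matrix.toLinAlgEquiv'
  let e' : A ⊗[R] Module.End R (Fin n → R) ≃ₐ[R] B ⊗[R] Module.End R (Fin n → R) :=
    (((Algebra.TensorProduct.congr AlgEquiv.refl m.symm).trans (matrixEquivTensor (Fin n) R A).symm).trans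
      e).trans ((matrixEquivTensor (Fin n) R B).trans (Algebra.TensorProduct.congr AlgEquiv.refl m))
  haveI := AzumayaLib.isAzumaya_end (R := R) (Fin n → R)
  refine cancel_endTensor A B hR (fun p => ?_) _ _ e'
  have h := congrFun (Module.rankAtStalk_eq_of_equiv e'.toLinearEquiv) p
  rw [Module.rankAtStalk_tensorProduct, Module.rankAtStalk_tensorProduct, Pi.mul_apply, Pi.mul_apply] at h
  exact Nat.eq_of_mul_eq_mul_right (rankAtStalk_pos _ p) h

theorem cancel_azumaya (hR : LGRing.IsLGRing R) (C : Type v'') [Ring C] [Algebra R C] [hC : IsAzumaya R C]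
    (e : A ⊗[R] C ≃ₐ[R] B ⊗[R] C) : Nonempty (A ≃ₐ[R] B) := by
  let μ : C ⊗[R] Cᵐᵒᵖ ≃ₐ[R] Module.End R C := AlgEquiv.ofBijective _ hC.bij
  let e' : A ⊗[R] Module.End R C ≃ₐ[R] B ⊗[R] Module.End R C :=
    (((Algebra.TensorProduct.congr AlgEquiv.refl μ.symm).trans (Algebra.TensorProduct.assoc R R R A C Cᵐᵒᵖ).symm).trans
      (Algebra.TensorProduct.congr e AlgEquiv.refl)).trans
      ((Algebra.TensorProduct.assoc R R R B C Cᵐᵒᵖ).trans (Algebra.TensorProduct.congr AlgEquiv.refl μ))
  refine cancel_endTensor A B hR (fun p => ?_) _ _ e'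
  have h := congrFun (Module.rankAtStalk_eq_of_equiv e.toLinearEquiv) p
  rw [Module.rankAtStalk_tensorProduct, Module.rankAtStalk_tensorProduct, Pi.mul_apply, Pi.mul_apply] at h
  exact Nat.eq_of_mul_eq_mul_right (rankAtStalk_pos C p) h

variable {A}

lemma projective_restrict (X : Type w) [AddCommGroup X] [Module A X] [Module R X] [IsScalarTower R A X]
    [Module.Finite A X] [Module.Projective A X] [Module.Projective R A] : Module.Projective R X := by
  classical
  obtain ⟨n, d, c, -, -, hdc⟩ := Module.Finite.exists_comp_eq_id_of_projective A X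
  haveI : Module.Projective R (Fin n → A) :=
    Module.Projective.of_equiv ((finsuppLequivDFinsupp R).symm ≪≫ₗ Finsupp.linearEquivFunOnFinite R A (Fin n))
  exact Module.Projective.of_split (c.restrictScalars R) (d.restrictScalars R)
    (LinearMap.ext fun x => LinearMap.congr_fun hdc x)

omit [IsAzumaya R A] in
lemma equiv_of_split (X : Type w) (Y : Type w') [AddCommGroup X] [Module A X] [AddCommGroup Y]
    [Module A Y] [Nontrivial Y] (hX : ∀ e : Module.End A X, IsIdempotentElem e → e = 0 ∨ e = 1)
    (φ : X →ₗ[A] Y) (ψ : Y →ₗ[A] X) (h : φ ∘ₗ ψ = LinearMap.id) : Nonempty (X ≃ₗ[A] Y) := by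
  have hid : IsIdempotentElem (ψ ∘ₗ φ : Module.End A X) := LinearMap.ext fun x => by
    show ψ (φ (ψ (φ x))) = ψ (φ x)
    rw [show φ (ψ (φ x)) = φ x from LinearMap.congr_fun h (φ x)]
  rcases hX _ hid with h0 | h1
  · obtain ⟨y, hy⟩ := exists_ne (0 : Y)
    refine absurd ?_ hy
    calc y = φ (ψ (φ (ψ y))) := by
          rw [show φ (ψ y) = y from LinearMap.congr_fun h y, show φ (ψ y) = y from LinearMap.congr_fun h y]
      _ = 0 := by rw [show ψ (φ (ψ y)) = 0 from LinearMap.congr_fun h0 (ψ y), map_zero]
  · exact ⟨LinearEquiv.ofLinear φ ψ h h1⟩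

/-- Indecomposable projective modules over an Azumaya algebra over a connected LG-ring are isomorphic. -/
theorem indecomposable_unique (hR : LGRing.IsLGRing R) [ConnectedSpace (PrimeSpectrum R)]
    (P : Type w) (Q : Type w') [AddCommGroup P] [Module A P] [Module.Finite A P] [Module.Projective A P]
    [Nontrivial P] [AddCommGroup Q] [Module A Q] [Module.Finite A Q] [Module.Projective A Q] [Nontrivial Q]
    (hP : ∀ e : Module.End A P, IsIdempotentElem e → e = 0 ∨ e = 1)
    (hQ : ∀ e : Module.End A Q, IsIdempotentElem e → e = 0 ∨ e = 1) : Nonempty (P ≃ₗ[A] Q) := by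
  letI : Module R P := Module.compHom P (algebraMap R A)
  letI : Module R Q := Module.compHom Q (algebraMap R A)
  haveI : IsScalarTower R A P := IsScalarTower.of_algebraMap_smul fun _ _ => rfl
  haveI : IsScalarTower R A Q := IsScalarTower.of_algebraMap_smul fun _ _ => rfl
  haveI : Module.Finite R P := Module.Finite.trans A P
  haveI : Module.Finite R Q := Module.Finite.trans A Q
  haveI : Module.Projective R P := projective_restrict (A := A) P
  haveI : Module.Projective R Q := projective_restrict (A := A) Q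
  haveI : Module.FinitePresentation R P := Module.finitePresentation_of_projective R P
  haveI : Module.FinitePresentation R Q := Module.finitePresentation_of_projective R Q
  obtain ⟨p⟩ := (inferInstance : Nonempty (PrimeSpectrum R))
  have hconst : ∀ q, Module.rankAtStalk (R := R) P q = Module.rankAtStalk (R := R) P p ∧
      Module.rankAtStalk (R := R) Q q = Module.rankAtStalk (R := R) Q p := fun q =>
    ⟨Module.isLocallyConstant_rankAtStalk.apply_eq_of_preconnectedSpace _ _,
      Module.isLocallyConstant_rankAtStalk.apply_eq_of_preconnectedSpace _ _⟩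
  rcases le_total (Module.rankAtStalk (R := R) Q p) (Module.rankAtStalk (R := R) P p) with hle | hle
  · obtain ⟨φ, ψ, h⟩ := exists_split_of_rank (A := A) (M := P) (N := Q) hR fun m _ => by
      rw [(hconst _).1, (hconst _).2]; exact hle
    exact equiv_of_split P Q hP φ ψ h
  · obtain ⟨φ, ψ, h⟩ := exists_split_of_rank (A := A) (M := Q) (N := P) hR fun m _ => by
      rw [(hconst _).1, (hconst _).2]; exact hle
    exact (equiv_of_split Q P hQ φ ψ h).map LinearEquiv.symm

end LGLib
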