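import Groth.Agent.LGLib.Basic
import Groth.Agent.AzumayaLib.Fibres
import Mathlib.RingTheory.SimpleModule.WedderburnArtin
import Mathlib.RingTheory.OrzechProperty

/-!
# Projective modules over Azumaya algebras over LG-rings
-/

namespace LGLib

open MvPolynomial
open scoped TensorProduct

universe u v w w'

variable {R : Type u} [CommRing R] {A : Type v} [Ring A] [Algebra R A]
variable {M : Type w} [AddCommGroup M] [Module A M] [Module R M] [IsScalarTower R A M]
variable {N : Type w'} [AddCommGroup N] [Module A N] [Module R N] [IsScalarTower R A N]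

/-- The maps out of a finite projective module into a finite one form a finite module. -/
theorem hom_finite [Module.Finite A M] [Module.Projective A M] [Module.Finite R N] [SMulCommClass A R N] :
    Module.Finite R (M →ₗ[A] N) := by
  obtain ⟨n, d, c, -, -, hdc⟩ := Module.Finite.exists_comp_eq_id_of_projective A M
  let res : ((Fin n → A) →ₗ[A] N) →ₗ[R] (M →ₗ[A] N) :=
    { toFun := fun f => f ∘ₗ c, map_add' := fun _ _ => rfl, map_smul' := fun _ _ => rfl }
  have hres : Function.Surjective res := fun f => ⟨f ∘ₗ d, LinearMap.ext fun x => by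
    show f (d (c x)) = f x
    rw [show d (c x) = x from LinearMap.congr_fun hdc x]⟩
  let ev : (Fin n → N) ≃ₗ[R] ((Fin n → A) →ₗ[A] N) := LinearMap.lsum A (fun _ : Fin n => A) R
    |> fun l => (LinearEquiv.piCongrRight fun _ => (LinearMap.ringLmapEquivSelf A R N).symm).trans l
  exact Module.Finite.of_surjective (res ∘ₗ ev.toLinearMap) (hres.comp ev.surjective)

variable [Module.Finite R M] [Module.Finite R N] [Module.Projective R N]
variable [Module.Finite A M] [Module.Projective A M] [Module.Finite A N] [Module.Projective A N]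

theorem exists_split_surjective (hR : LGRing.IsLGRing R)
    (h : ∀ m : Ideal R, m.IsMaximal → ∃ (φ : M →ₗ[A] N) (ψ : N →ₗ[A] M),
      ∀ y, φ (ψ y) - y ∈ m • (⊤ : Submodule R N)) :
    ∃ (φ : M →ₗ[A] N) (ψ : N →ₗ[A] M), φ ∘ₗ ψ = LinearMap.id := by
  classical
  haveI : SMulCommClass A R N := SMulCommClass.symm R A N
  haveI : SMulCommClass A R M := SMulCommClass.symm R A M
  haveI := hom_finite (R := R) (A := A) (M := M) (N := N)
  haveI := hom_finite (R := R) (A := A) (M := N) (N := M)
  obtain ⟨p, Φ, hΦ⟩ := Module.Finite.exists_fin' R (M →ₗ[A] N)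
  obtain ⟨q, Ψ, hΨ⟩ := Module.Finite.exists_fin' R (N →ₗ[A] M)
  obtain ⟨b, dN, cN, -, -, hN⟩ := Module.Finite.exists_comp_eq_id_of_projective R N
  have hN' : ∀ x, dN (cN x) = x := LinearMap.congr_fun hN
  let e : Matrix (Fin b) (Fin b) R := LinearMap.toMatrix' (cN ∘ₗ dN)
  let G : Fin p → Fin q → Matrix (Fin b) (Fin b) R := fun i j =>
    LinearMap.toMatrix' (cN ∘ₗ ((Φ (Pi.single i 1)) ∘ₗ (Ψ (Pi.single j 1))).restrictScalars R ∘ₗ dN)
  let P : MvPolynomial (Fin p ⊕ Fin q) R := Matrix.det (Matrix.of fun a c : Fin b =>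
    (∑ i : Fin p, ∑ j : Fin q, X (Sum.inl i) * X (Sum.inr j) * C (G i j a c)) +
      C ((1 - e : Matrix (Fin b) (Fin b) R) a c))
  let U : (Fin p → R) → (Fin q → R) → ((Fin b → R) →ₗ[R] (Fin b → R)) := fun s t =>
    cN ∘ₗ ((Φ s ∘ₗ Ψ t).restrictScalars R - LinearMap.id) ∘ₗ dN + LinearMap.id
  have heval : ∀ s t, eval (Sum.elim s t) P = (LinearMap.toMatrix' (U s t)).det := by
    intro s t
    simp only [P, RingHom.map_det, RingHom.mapMatrix_apply]
    congr 1
    have hexp : (cN ∘ₗ ((Φ s ∘ₗ Ψ t).restrictScalars R) ∘ₗ dN) =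
        ∑ i, ∑ j, (s i * t j) •
          (cN ∘ₗ ((Φ (Pi.single i 1)) ∘ₗ (Ψ (Pi.single j 1))).restrictScalars R ∘ₗ dN) := by
      refine LinearMap.ext fun x => ?_
      have hs : Φ s = ∑ i, s i • Φ (Pi.single i 1) := by
        conv_lhs => rw [pi_eq_sum_univ' s]
        simp only [map_sum, map_smul]
      have ht : Ψ t = ∑ j, t j • Ψ (Pi.single j 1) := by
        conv_lhs => rw [pi_eq_sum_univ' t]
        simp only [map_sum, map_smul]
      rw [hs, ht]
      simp only [LinearMap.comp_apply, LinearMap.restrictScalars_apply, LinearMap.sum_apply,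
        LinearMap.smul_apply, map_sum, LinearMap.map_smul_of_tower, map_smul, Finset.smul_sum, mul_smul]
      rw [Finset.sum_comm]
    have hU : U s t = cN ∘ₗ ((Φ s ∘ₗ Ψ t).restrictScalars R) ∘ₗ dN + (LinearMap.id - cN ∘ₗ dN) := by
      refine LinearMap.ext fun x => ?_
      simp only [U, LinearMap.comp_apply, LinearMap.add_apply, LinearMap.sub_apply, LinearMap.id_apply, map_sub]
      abel
    rw [hU, hexp, map_add, map_sub, LinearMap.toMatrix'_id]
    simp only [map_sum, map_smul]
    ext a c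
    simp [G, e, Matrix.sum_apply, Matrix.map_apply, -LinearMap.toMatrix'_apply]
  obtain ⟨st, hst⟩ := exists_isUnit_eval hR P fun m hm => by
    obtain ⟨φ, ψ, h1⟩ := h m hm
    obtain ⟨s, rfl⟩ := hΦ φ
    obtain ⟨t, rfl⟩ := hΨ ψ
    refine ⟨Sum.elim s t, ?_⟩
    rw [heval]
    intro hmem
    have hone : Ideal.Quotient.mk m (LinearMap.toMatrix' (U s t)).det = 1 := by
      rw [RingHom.map_det, RingHom.mapMatrix_apply,
        show (LinearMap.toMatrix' (U s t)).map (Ideal.Quotient.mk m) = 1 from ?_, Matrix.det_one]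
      ext i j
      have h2 : cN (Φ s (Ψ t (dN (Pi.single j 1))) - dN (Pi.single j 1)) i ∈ m :=
        coord_mem cN m (h1 _) i
      have e1 : Ideal.Quotient.mk m ((cN ∘ₗ ((Φ s ∘ₗ Ψ t).restrictScalars R - LinearMap.id) ∘ₗ dN)
          (Pi.single j 1) i) = 0 := Ideal.Quotient.eq_zero_iff_mem.mpr h2
      rw [Matrix.map_apply, LinearMap.toMatrix'_apply]
      simp only [U, LinearMap.add_apply, Pi.add_apply, map_add, LinearMap.id_apply]
      rw [e1, zero_add]
      rcases eq_or_ne i j with rfl | hij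
      · simp
      · simp [Matrix.one_apply_ne hij, Pi.single_eq_of_ne hij]
    let := Ideal.Quotient.field m
    rw [← Ideal.Quotient.eq_zero_iff_mem, hone] at hmem
    exact one_ne_zero hmem
  have hst' : st = Sum.elim (fun i => st (Sum.inl i)) (fun j => st (Sum.inr j)) := by
    funext x; cases x <;> rfl
  rw [hst', heval] at hst
  set s := fun i => st (Sum.inl i)
  set t := fun j => st (Sum.inr j)
  let F : N →ₗ[A] N := Φ s ∘ₗ Ψ t
  have hbij : Function.Bijective F := by
    have hU : Function.Bijective (U s t) := by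
      rw [← Matrix.toLin'_toMatrix' (U s t)]
      exact (Matrix.toLinearEquiv' _ ((Matrix.isUnit_iff_isUnit_det _).mpr hst).invertible).bijective
    have hint : ∀ x, U s t (cN x) = cN (F x) := fun x => by
      simp [U, F, hN', map_sub]
    constructor
    · intro x y hxy
      rw [← hN' x, hU.1 ((hint x).trans ((congrArg cN hxy).trans (hint y).symm)), hN']
    · intro y
      obtain ⟨v, hv⟩ := hU.2 (cN y)
      refine ⟨dN v, ?_⟩
      simpa [U, F, hN', map_sub] using congrArg dN hv
  refine ⟨Φ s, Ψ t ∘ₗ (LinearEquiv.ofBijective F hbij).symm.toLinearMap, LinearMap.ext fun y => ?_⟩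
  exact (LinearEquiv.ofBijective F hbij).apply_symm_apply y

/-- A split surjection between modules over a simple algebra, by dimension. -/
theorem exists_split_of_finrank {κ : Type*} [Field κ] {B : Type*} [Ring B] [Algebra κ B] [IsSimpleRing B]
    [FiniteDimensional κ B] (V W : Type*) [AddCommGroup V] [Module B V] [Module κ V] [IsScalarTower κ B V]
    [FiniteDimensional κ V] [AddCommGroup W] [Module B W] [Module κ W] [IsScalarTower κ B W]
    [FiniteDimensional κ W] (h : Module.finrank κ W ≤ Module.finrank κ V) :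
    ∃ (f : V →ₗ[B] W) (g : W →ₗ[B] V), f ∘ₗ g = LinearMap.id := by
  haveI : IsArtinianRing B := isArtinian_of_tower κ inferInstance
  rcases subsingleton_or_nontrivial W with hW | hW
  · exact ⟨0, 0, LinearMap.ext fun x => Subsingleton.elim _ _⟩
  haveI : Nontrivial V := Module.finrank_pos_iff.1 (lt_of_lt_of_le Module.finrank_pos h)
  haveI : Module.Finite B V := Module.Finite.of_restrictScalars_finite κ B V
  haveI : Module.Finite B W := Module.Finite.of_restrictScalars_finite κ B W
  obtain ⟨a, -, S, hS, ⟨eV⟩⟩ := (IsSimpleRing.isIsotypic B V).linearEquiv_fun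
  obtain ⟨b, -, T, hT, ⟨eW⟩⟩ := (IsSimpleRing.isIsotypic B W).linearEquiv_fun
  obtain ⟨eST⟩ : Nonempty (S ≃ₗ[B] T) := by
    haveI := hS
    haveI := hT
    let j : S →ₗ[B] S × T := LinearMap.inl B S T
    let j' : T →ₗ[B] S × T := LinearMap.inr B S T
    have e1 := LinearEquiv.ofInjective j LinearMap.inl_injective
    have e2 := LinearEquiv.ofInjective j' LinearMap.inr_injective
    haveI : IsSimpleModule B (LinearMap.range j) := IsSimpleModule.congr e1.symm
    haveI : IsSimpleModule B (LinearMap.range j') := IsSimpleModule.congr e2.symm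
    obtain ⟨e3⟩ := IsSimpleRing.isIsotypic B (S × T) (LinearMap.range j) (LinearMap.range j')
    exact ⟨e1.trans (e3.symm.trans e2.symm)⟩
  haveI : FiniteDimensional κ S := FiniteDimensional.finiteDimensional_submodule (S.restrictScalars κ)
  have hd : 0 < Module.finrank κ S := by
    haveI := IsSimpleModule.nontrivial B S
    exact Module.finrank_pos
  have hba : b ≤ a := by
    have hV := ((eV.restrictScalars κ).finrank_eq).trans (Module.finrank_pi_fintype κ)
    have hW' := (((eW.trans (LinearEquiv.piCongrRight fun _ => eST.symm)).restrictScalars κ).finrank_eq).trans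
      (Module.finrank_pi_fintype κ)
    simp only [Finset.sum_const, Finset.card_univ, Fintype.card_fin, smul_eq_mul] at hV hW'
    rw [hV, hW'] at h
    exact Nat.le_of_mul_le_mul_right h hd
  let eW' := eW.trans (LinearEquiv.piCongrRight fun _ => eST.symm)
  let pr : (Fin a → S) →ₗ[B] (Fin b → S) := LinearMap.funLeft B S (Fin.castLE hba)
  let sc : (Fin b → S) →ₗ[B] (Fin a → S) :=
    LinearMap.pi fun i => if hi : (i : ℕ) < b then LinearMap.proj ⟨i, hi⟩ else 0
  refine ⟨eW'.symm.toLinearMap ∘ₗ pr ∘ₗ eV.toLinearMap, eV.symm.toLinearMap ∘ₗ sc ∘ₗ eW'.toLinearMap,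
    LinearMap.ext fun w => ?_⟩
  have hps : ∀ z, pr (sc z) = z := fun z => funext fun i => by
    simp [pr, sc, LinearMap.funLeft]
  simp [hps]

section Az

variable [IsAzumaya R A] [Module.Projective R M]

theorem exists_split_of_rank (hR : LGRing.IsLGRing R)
    (h : ∀ (m : Ideal R) [m.IsMaximal],
      Module.rankAtStalk N ⟨m, inferInstance⟩ ≤ Module.rankAtStalk M ⟨m, inferInstance⟩) :
    ∃ (φ : M →ₗ[A] N) (ψ : N →ₗ[A] M), φ ∘ₗ ψ = LinearMap.id := by
  refine exists_split_surjective hR fun m hm => ?_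
  let := Ideal.Quotient.field m
  let κ := R ⧸ m
  obtain ⟨-, hsimple⟩ := AzumayaLib.fibre_csa (R := R) (A := A) κ
  let B := κ ⊗[R] A
  haveI : IsSimpleRing B := hsimple
  let actM : B →ₐ[κ] Module.End κ (κ ⊗[R] M) := Algebra.TensorProduct.lift (Algebra.ofId κ _)
    ((Module.End.baseChangeHom R κ M).comp (Algebra.lsmul R R M))
    fun c a => Algebra.commutes c _
  let actN : B →ₐ[κ] Module.End κ (κ ⊗[R] N) := Algebra.TensorProduct.lift (Algebra.ofId κ _)
    ((Module.End.baseChangeHom R κ N).comp (Algebra.lsmul R R N))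
    fun c a => Algebra.commutes c _
  letI : Module B (κ ⊗[R] M) := Module.compHom _ actM.toRingHom
  letI : Module B (κ ⊗[R] N) := Module.compHom _ actN.toRingHom
  haveI : IsScalarTower κ B (κ ⊗[R] M) := ⟨fun c x y => LinearMap.congr_fun (map_smul actM c x) y⟩
  haveI : IsScalarTower κ B (κ ⊗[R] N) := ⟨fun c x y => LinearMap.congr_fun (map_smul actN c x) y⟩
  obtain ⟨f, g, hfg⟩ := exists_split_of_finrank (κ := κ) (B := B) (κ ⊗[R] M) (κ ⊗[R] N)
    (by rw [finrank_fibre, finrank_fibre]; exact h m)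
  let inc : A →+* B := (Algebra.TensorProduct.includeRight : A →ₐ[R] B).toRingHom
  letI : Module A (κ ⊗[R] M) := Module.compHom _ inc
  letI : Module A (κ ⊗[R] N) := Module.compHom _ inc
  have heqM : ∀ (a : A) (x : M), inc a • ((1 : κ) ⊗ₜ[R] x) = (1 : κ) ⊗ₜ[R] (a • x) := fun a x => by
    show actM ((1 : κ) ⊗ₜ[R] a) ((1 : κ) ⊗ₜ[R] x) = _
    simp only [actM]
    erw [Algebra.TensorProduct.lift_tmul]
    rw [map_one, one_mul]
    rfl
  have heqN : ∀ (a : A) (x : N), inc a • ((1 : κ) ⊗ₜ[R] x) = (1 : κ) ⊗ₜ[R] (a • x) := fun a x => by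
    show actN ((1 : κ) ⊗ₜ[R] a) ((1 : κ) ⊗ₜ[R] x) = _
    simp only [actN]
    erw [Algebra.TensorProduct.lift_tmul]
    rw [map_one, one_mul]
    rfl
  let πM : M →ₗ[A] (κ ⊗[R] M) :=
    { toFun := fun x => (1 : κ) ⊗ₜ[R] x
      map_add' := TensorProduct.tmul_add _
      map_smul' := fun a x => (heqM a x).symm }
  let πN : N →ₗ[A] (κ ⊗[R] N) :=
    { toFun := fun x => (1 : κ) ⊗ₜ[R] x
      map_add' := TensorProduct.tmul_add _
      map_smul' := fun a x => (heqN a x).symm }
  have hsM : Function.Surjective πM := TensorProduct.mk_surjective R M κ Ideal.Quotient.mk_surjective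
  have hsN : Function.Surjective πN := TensorProduct.mk_surjective R N κ Ideal.Quotient.mk_surjective
  let fA : (κ ⊗[R] M) →ₗ[A] (κ ⊗[R] N) :=
    { toFun := f, map_add' := map_add f, map_smul' := fun a x => f.map_smul (inc a) x }
  let gA : (κ ⊗[R] N) →ₗ[A] (κ ⊗[R] M) :=
    { toFun := g, map_add' := map_add g, map_smul' := fun a x => g.map_smul (inc a) x }
  obtain ⟨φ, hφ⟩ := Module.projective_lifting_property πN (fA ∘ₗ πM) hsN
  obtain ⟨ψ, hψ⟩ := Module.projective_lifting_property πM (gA ∘ₗ πN) hsM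
  refine ⟨φ, ψ, fun y => ?_⟩
  have h1 : πN (φ (ψ y)) = πN y := by
    calc πN (φ (ψ y)) = fA (πM (ψ y)) := LinearMap.congr_fun hφ (ψ y)
      _ = fA (gA (πN y)) := congrArg fA (LinearMap.congr_fun hψ y)
      _ = πN y := LinearMap.congr_fun hfg _
  have h2 := congrArg (TensorProduct.quotTensorEquivQuotSMul N m) h1
  rw [← Submodule.Quotient.eq]
  simpa [πN, κ, ← map_one (Ideal.Quotient.mk m), -map_one,
    TensorProduct.quotTensorEquivQuotSMul_mk_tmul] using h2

theorem nonempty_linearEquiv_of_rank (hR : LGRing.IsLGRing R)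
    (h : ∀ (m : Ideal R) [m.IsMaximal],
      Module.rankAtStalk N ⟨m, inferInstance⟩ = Module.rankAtStalk M ⟨m, inferInstance⟩) :
    Nonempty (M ≃ₗ[A] N) := by
  obtain ⟨φ, ψ, h1⟩ := exists_split_of_rank (A := A) (M := M) (N := N) hR fun m _ => (h m).le
  obtain ⟨φ', ψ', h2⟩ := exists_split_of_rank (A := A) (M := N) (N := M) hR fun m _ => (h m).ge
  have hφ : Function.Surjective φ := fun y => ⟨ψ y, LinearMap.congr_fun h1 y⟩
  have hφ' : Function.Surjective φ' := fun y => ⟨ψ' y, LinearMap.congr_fun h2 y⟩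
  have hinj := OrzechProperty.injective_of_surjective_endomorphism ((φ' ∘ₗ φ).restrictScalars R)
    (hφ'.comp hφ)
  exact ⟨LinearEquiv.ofBijective φ ⟨fun x y hxy => hinj (congrArg φ' hxy), hφ⟩⟩

end Az

end LGLib
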