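import Groth.Prelude.Def_W4c4lgringredgrpLG
import Mathlib.RingTheory.Spectrum.Prime.FreeLocus
import Mathlib.RingTheory.Support
import Mathlib.LinearAlgebra.TensorProduct.Quotient
import Mathlib.RingTheory.Finiteness.Projective
import Mathlib.LinearAlgebra.Matrix.ToLin
import Mathlib.LinearAlgebra.Matrix.ToLinearEquiv
import Mathlib.LinearAlgebra.Dimension.Free
import Mathlib.LinearAlgebra.Matrix.NonsingularInverse
import Mathlib.RingTheory.Ideal.Quotient.Basic

/-!
# LG-rings: projective modules with the same rank are isomorphic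
-/

namespace LGLib

open MvPolynomial
open scoped TensorProduct

universe u v w

variable {R : Type u} [CommRing R]

/-- The local-global principle with an arbitrary finite set of variables. -/
lemma exists_isUnit_eval (hR : LGRing.IsLGRing R) {σ : Type} [Fintype σ] (f : MvPolynomial σ R)
    (h : ∀ m : Ideal R, m.IsMaximal → ∃ s : σ → R, eval s f ∉ m) :
    ∃ s : σ → R, IsUnit (eval s f) := by
  classical
  obtain ⟨e⟩ : Nonempty (σ ≃ Fin (Fintype.card σ)) := ⟨Fintype.equivFin σ⟩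
  obtain ⟨s, hs⟩ := hR _ (rename e f) fun m hm => by
    obtain ⟨s, hs⟩ := h m hm
    let := Ideal.Quotient.field m
    refine ⟨fun i => Ideal.Quotient.mk m (s (e.symm i)), isUnit_iff_ne_zero.mpr ?_⟩
    rw [aeval_rename]
    have e1 : ((fun i => Ideal.Quotient.mk m (s (e.symm i))) ∘ e) = fun j => algebraMap R (R ⧸ m) (s j) :=
      funext fun j => by simp [Ideal.Quotient.algebraMap_eq]
    have e2 := MvPolynomial.comp_aeval_apply s (Algebra.ofId R (R ⧸ m)) f
    rw [e1, show (fun j => algebraMap R (R ⧸ m) (s j)) = fun j => Algebra.ofId R (R ⧸ m) (s j) from rfl, ← e2]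
    rw [Algebra.ofId_apply, Ideal.Quotient.algebraMap_eq, Ne, Ideal.Quotient.eq_zero_iff_mem,
      aeval_eq_eval₂Hom, Algebra.algebraMap_self]
    exact hs
  rw [aeval_rename] at hs
  exact ⟨s ∘ e, by simpa [aeval_eq_eval₂Hom, Algebra.algebraMap_self] using hs⟩

variable {M : Type v} [AddCommGroup M] [Module R M] [Module.Finite R M] [Module.Projective R M]
variable {N : Type w} [AddCommGroup N] [Module R N] [Module.Finite R N] [Module.Projective R N]

lemma mem_smul_top_of_coord {n : ℕ} (c : M →ₗ[R] Fin n → R) (d : (Fin n → R) →ₗ[R] M)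
    (hdc : d ∘ₗ c = LinearMap.id) (I : Ideal R) {y : M} (h : ∀ i, c y i ∈ I) : y ∈ I • (⊤ : Submodule R M) := by
  rw [show y = d (c y) from (LinearMap.congr_fun hdc y).symm, pi_eq_sum_univ' (c y), map_sum]
  refine Submodule.sum_mem _ fun i _ => ?_
  rw [map_smul]
  exact Submodule.smul_mem_smul (h i) Submodule.mem_top

lemma coord_mem {n : ℕ} (c : M →ₗ[R] Fin n → R) (I : Ideal R) {y : M} (hy : y ∈ I • (⊤ : Submodule R M)) (i) :
    c y i ∈ I :=
  Submodule.smul_induction_on hy (fun a ha z _ => by rw [map_smul]; exact I.mul_mem_right _ ha)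
    (fun a b ha hb => by rw [map_add]; exact add_mem ha hb)

theorem nonempty_equiv_of_fibres (hR : LGRing.IsLGRing R)
    (h : ∀ m : Ideal R, m.IsMaximal → ∃ (φ : M →ₗ[R] N) (ψ : N →ₗ[R] M),
      (∀ x, ψ (φ x) - x ∈ m • (⊤ : Submodule R M)) ∧ ∀ y, φ (ψ y) - y ∈ m • (⊤ : Submodule R N)) :
    Nonempty (M ≃ₗ[R] N) := by
  classical
  obtain ⟨a, dM, cM, -, -, hM⟩ := Module.Finite.exists_comp_eq_id_of_projective R M
  obtain ⟨b, dN, cN, -, -, hN⟩ := Module.Finite.exists_comp_eq_id_of_projective R N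
  let eM : Matrix (Fin a) (Fin a) R := LinearMap.toMatrix' (cM ∘ₗ dM)
  let eN : Matrix (Fin b) (Fin b) R := LinearMap.toMatrix' (cN ∘ₗ dN)
  let SS : Matrix (Fin b) (Fin a) (MvPolynomial ((Fin b × Fin a) ⊕ (Fin a × Fin b)) R) := Matrix.of fun i j => X (Sum.inl (i, j))
  let TT : Matrix (Fin a) (Fin b) (MvPolynomial ((Fin b × Fin a) ⊕ (Fin a × Fin b)) R) := Matrix.of fun i j => X (Sum.inr (i, j))
  let cA : R →+* (MvPolynomial ((Fin b × Fin a) ⊕ (Fin a × Fin b)) R) := C
  let P : (MvPolynomial ((Fin b × Fin a) ⊕ (Fin a × Fin b)) R) := (eM.map cA * TT * eN.map cA * SS * eM.map cA + (1 - eM.map cA)).det *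
    (eN.map cA * SS * eM.map cA * TT * eN.map cA + (1 - eN.map cA)).det
  have heval : ∀ (S : Matrix (Fin b) (Fin a) R) (T : Matrix (Fin a) (Fin b) R),
      eval (Sum.elim (fun q => S q.1 q.2) (fun q => T q.1 q.2)) P =
        (eM * T * eN * S * eM + (1 - eM)).det * (eN * S * eM * T * eN + (1 - eN)).det := by
    intro S T
    set s : ((Fin b × Fin a) ⊕ (Fin a × Fin b)) → R := Sum.elim (fun q => S q.1 q.2) (fun q => T q.1 q.2)
    have hC : ∀ {m m' : ℕ} (X' : Matrix (Fin m) (Fin m') R), (X'.map cA).map (eval s) = X' := by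
      intro m m' X'; ext i j; simp [cA]
    have hS : SS.map (eval s) = S := by ext i j; simp [SS, s]
    have hT : TT.map (eval s) = T := by ext i j; simp [TT, s]
    simp only [P, map_mul, RingHom.map_det, RingHom.mapMatrix_apply, Matrix.map_mul, Matrix.map_add _ (map_add (eval s)),
      Matrix.map_sub _ (map_sub (eval s)), Matrix.map_one _ (map_zero (eval s)) (map_one (eval s)), hC, hS, hT]
  -- the translation between maps and matrices
  have hmat : ∀ (φ : M →ₗ[R] N) (ψ : N →ₗ[R] M),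
      eM * LinearMap.toMatrix' (cM ∘ₗ ψ ∘ₗ dN) * eN * LinearMap.toMatrix' (cN ∘ₗ φ ∘ₗ dM) * eM + (1 - eM) =
        LinearMap.toMatrix' (cM ∘ₗ (ψ ∘ₗ φ - LinearMap.id) ∘ₗ dM + LinearMap.id) ∧
      eN * LinearMap.toMatrix' (cN ∘ₗ φ ∘ₗ dM) * eM * LinearMap.toMatrix' (cM ∘ₗ ψ ∘ₗ dN) * eN + (1 - eN) =
        LinearMap.toMatrix' (cN ∘ₗ (φ ∘ₗ ψ - LinearMap.id) ∘ₗ dN + LinearMap.id) := by
    intro φ ψ
    have hM' : ∀ x, dM (cM x) = x := LinearMap.congr_fun hM
    have hN' : ∀ x, dN (cN x) = x := LinearMap.congr_fun hN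
    constructor
    · simp only [eM, eN, ← LinearMap.toMatrix'_comp, ← LinearMap.toMatrix'_id, ← map_sub, ← map_add]
      congr 1
      refine LinearMap.ext fun x => ?_
      simp only [LinearMap.comp_apply, LinearMap.add_apply, LinearMap.sub_apply, LinearMap.id_apply, hM', hN',
        map_sub]
      abel
    · simp only [eM, eN, ← LinearMap.toMatrix'_comp, ← LinearMap.toMatrix'_id, ← map_sub, ← map_add]
      congr 1
      refine LinearMap.ext fun x => ?_
      simp only [LinearMap.comp_apply, LinearMap.add_apply, LinearMap.sub_apply, LinearMap.id_apply, hM', hN',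
        map_sub]
      abel
  obtain ⟨s, hs⟩ := exists_isUnit_eval hR P fun m hm => by
    obtain ⟨φ, ψ, h1, h2⟩ := h m hm
    refine ⟨Sum.elim (fun q => LinearMap.toMatrix' (cN ∘ₗ φ ∘ₗ dM) q.1 q.2)
      (fun q => LinearMap.toMatrix' (cM ∘ₗ ψ ∘ₗ dN) q.1 q.2), ?_⟩
    rw [heval, (hmat φ ψ).1, (hmat φ ψ).2]
    let := Ideal.Quotient.field m
    have key : ∀ {r : ℕ} (U : (Fin r → R) →ₗ[R] Fin r → R), (∀ x i, U x i ∈ m) →
        Ideal.Quotient.mk m (LinearMap.toMatrix' (U + LinearMap.id)).det = 1 := by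
      intro r U hU
      rw [RingHom.map_det, RingHom.mapMatrix_apply,
        show (LinearMap.toMatrix' (U + LinearMap.id)).map (Ideal.Quotient.mk m) = 1 from ?_, Matrix.det_one]
      ext i j
      rw [Matrix.map_apply, map_add, LinearMap.toMatrix'_id, Matrix.add_apply, map_add,
        LinearMap.toMatrix'_apply, Ideal.Quotient.eq_zero_iff_mem.mpr (hU _ i), zero_add]
      rcases eq_or_ne i j with rfl | hij
      · simp
      · simp [Matrix.one_apply_ne hij]
    intro hmem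
    rw [← Ideal.Quotient.eq_zero_iff_mem, map_mul,
      key _ (fun x i => coord_mem cM m (h1 (dM x)) i), key _ (fun x i => coord_mem cN m (h2 (dN x)) i), mul_one] at hmem
    exact one_ne_zero hmem
  let S : Matrix (Fin b) (Fin a) R := Matrix.of fun i j => s (Sum.inl (i, j))
  let T : Matrix (Fin a) (Fin b) R := Matrix.of fun i j => s (Sum.inr (i, j))
  have hst : s = Sum.elim (fun q => S q.1 q.2) (fun q => T q.1 q.2) := by
    funext q; rcases q with ⟨i, j⟩ | ⟨i, j⟩ <;> rfl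
  rw [hst, heval] at hs
  let φ : M →ₗ[R] N := dN ∘ₗ Matrix.toLin' S ∘ₗ cM
  let ψ : N →ₗ[R] M := dM ∘ₗ Matrix.toLin' T ∘ₗ cN
  have hφ : LinearMap.toMatrix' (cN ∘ₗ φ ∘ₗ dM) = eN * S * eM := by
    change LinearMap.toMatrix' ((cN ∘ₗ dN) ∘ₗ Matrix.toLin' S ∘ₗ (cM ∘ₗ dM)) = _
    rw [LinearMap.toMatrix'_comp, LinearMap.toMatrix'_comp, LinearMap.toMatrix'_toLin', Matrix.mul_assoc]
  have hψ : LinearMap.toMatrix' (cM ∘ₗ ψ ∘ₗ dN) = eM * T * eN := by
    change LinearMap.toMatrix' ((cM ∘ₗ dM) ∘ₗ Matrix.toLin' T ∘ₗ (cN ∘ₗ dN)) = _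
    rw [LinearMap.toMatrix'_comp, LinearMap.toMatrix'_comp, LinearMap.toMatrix'_toLin', Matrix.mul_assoc]
  have hee : eM * eM = eM ∧ eN * eN = eN := by
    constructor
    · rw [← LinearMap.toMatrix'_comp]
      exact congrArg _ (LinearMap.ext fun x => congrArg cM (LinearMap.congr_fun hM (dM x)))
    · rw [← LinearMap.toMatrix'_comp]
      exact congrArg _ (LinearMap.ext fun x => congrArg cN (LinearMap.congr_fun hN (dN x)))
  have hbij : Function.Bijective (ψ ∘ₗ φ) ∧ Function.Bijective (φ ∘ₗ ψ) := by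
    have e := hmat φ ψ
    rw [hφ, hψ] at e
    simp only [← Matrix.mul_assoc, hee.1, hee.2] at e
    have e1 : eM * T * eN * S * eM + (1 - eM) =
        LinearMap.toMatrix' (cM ∘ₗ (ψ ∘ₗ φ - LinearMap.id) ∘ₗ dM + LinearMap.id) := by
      rw [← e.1]
      simp only [Matrix.mul_assoc, hee.1, hee.2]
    have e2 : eN * S * eM * T * eN + (1 - eN) =
        LinearMap.toMatrix' (cN ∘ₗ (φ ∘ₗ ψ - LinearMap.id) ∘ₗ dN + LinearMap.id) := by
      rw [← e.2]
      simp only [Matrix.mul_assoc, hee.1, hee.2]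
    rw [e1, e2, IsUnit.mul_iff] at hs
    constructor
    · have hU : Function.Bijective ⇑(cM ∘ₗ (ψ ∘ₗ φ - LinearMap.id) ∘ₗ dM + LinearMap.id : (Fin a → R) →ₗ[R] (Fin a → R)) := by
        rw [← Matrix.toLin'_toMatrix' (cM ∘ₗ (ψ ∘ₗ φ - LinearMap.id) ∘ₗ dM + LinearMap.id)]
        exact (Matrix.toLinearEquiv' _ ((Matrix.isUnit_iff_isUnit_det _).mpr hs.1).invertible).bijective
      have hM' : ∀ x, dM (cM x) = x := LinearMap.congr_fun hM
      have hint : ∀ x, (cM ∘ₗ (ψ ∘ₗ φ - LinearMap.id) ∘ₗ dM + LinearMap.id : (Fin a → R) →ₗ[R] _) (cM x) = cM (ψ (φ x)) :=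
        fun x => by simp [hM']
      constructor
      · intro x y hxy
        have := hU.1 ((hint x).trans ((congrArg cM hxy).trans (hint y).symm))
        rw [← hM' x, this, hM']
      · intro y
        obtain ⟨v, hv⟩ := hU.2 (cM y)
        refine ⟨dM v, ?_⟩
        have := congrArg dM hv
        simpa [hM'] using this
    · have hU : Function.Bijective ⇑(cN ∘ₗ (φ ∘ₗ ψ - LinearMap.id) ∘ₗ dN + LinearMap.id : (Fin b → R) →ₗ[R] (Fin b → R)) := by
        rw [← Matrix.toLin'_toMatrix' (cN ∘ₗ (φ ∘ₗ ψ - LinearMap.id) ∘ₗ dN + LinearMap.id)]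
        exact (Matrix.toLinearEquiv' _ ((Matrix.isUnit_iff_isUnit_det _).mpr hs.2).invertible).bijective
      have hN' : ∀ x, dN (cN x) = x := LinearMap.congr_fun hN
      have hint : ∀ x, (cN ∘ₗ (φ ∘ₗ ψ - LinearMap.id) ∘ₗ dN + LinearMap.id : (Fin b → R) →ₗ[R] _) (cN x) = cN (φ (ψ x)) :=
        fun x => by simp [hN']
      constructor
      · intro x y hxy
        have := hU.1 ((hint x).trans ((congrArg cN hxy).trans (hint y).symm))
        rw [← hN' x, this, hN']
      · intro y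
        obtain ⟨v, hv⟩ := hU.2 (cN y)
        refine ⟨dN v, ?_⟩
        have := congrArg dN hv
        simpa [hN'] using this
  exact ⟨LinearEquiv.ofBijective φ ⟨fun x y h => hbij.1.1 (congrArg ψ h), fun y => by
    obtain ⟨x, hx⟩ := hbij.2.2 y
    exact ⟨ψ x, hx⟩⟩⟩

lemma finrank_fibre (m : Ideal R) [m.IsMaximal] :
    Module.finrank (R ⧸ m) ((R ⧸ m) ⊗[R] M) = Module.rankAtStalk M ⟨m, inferInstance⟩ := by
  let := Ideal.Quotient.field m
  have h1 := Module.rankAtStalk_baseChange (R := R) (M := M) (S := R ⧸ m) ⟨⊥, Ideal.bot_prime⟩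
  rw [Module.rankAtStalk_eq_finrank_of_free, Pi.natCast_apply, Nat.cast_id] at h1
  rw [h1]
  congr 1
  refine PrimeSpectrum.ext ?_
  change (⊥ : Ideal (R ⧸ m)).comap (algebraMap R (R ⧸ m)) = m
  rw [← RingHom.ker_eq_comap_bot, Ideal.Quotient.algebraMap_eq, Ideal.mk_ker]

theorem nonempty_equiv_of_rank (hR : LGRing.IsLGRing R)
    (h : ∀ (m : Ideal R) [m.IsMaximal],
      Module.rankAtStalk M ⟨m, inferInstance⟩ = Module.rankAtStalk N ⟨m, inferInstance⟩) :
    Nonempty (M ≃ₗ[R] N) := by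
  refine nonempty_equiv_of_fibres hR fun m hm => ?_
  let := Ideal.Quotient.field m
  obtain ⟨e⟩ : Nonempty (((R ⧸ m) ⊗[R] M) ≃ₗ[R ⧸ m] ((R ⧸ m) ⊗[R] N)) :=
    ⟨LinearEquiv.ofFinrankEq _ _ (by rw [finrank_fibre, finrank_fibre, h m])⟩
  let ε : (M ⧸ m • (⊤ : Submodule R M)) ≃ₗ[R] (N ⧸ m • (⊤ : Submodule R N)) :=
    (TensorProduct.quotTensorEquivQuotSMul M m).symm ≪≫ₗ e.restrictScalars R ≪≫ₗ
      TensorProduct.quotTensorEquivQuotSMul N m
  obtain ⟨φ, hφ⟩ := Module.projective_lifting_property (m • (⊤ : Submodule R N)).mkQ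
    (ε.toLinearMap ∘ₗ (m • (⊤ : Submodule R M)).mkQ) (Submodule.mkQ_surjective _)
  obtain ⟨ψ, hψ⟩ := Module.projective_lifting_property (m • (⊤ : Submodule R M)).mkQ
    (ε.symm.toLinearMap ∘ₗ (m • (⊤ : Submodule R N)).mkQ) (Submodule.mkQ_surjective _)
  refine ⟨φ, ψ, fun x => ?_, fun y => ?_⟩
  · rw [← Submodule.Quotient.eq]
    have h1 := LinearMap.congr_fun hψ (φ x)
    have h2 := LinearMap.congr_fun hφ x
    simp only [LinearMap.comp_apply, LinearEquiv.coe_coe, Submodule.mkQ_apply] at h1 h2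
    rw [h1, h2, LinearEquiv.symm_apply_apply]
  · rw [← Submodule.Quotient.eq]
    have h1 := LinearMap.congr_fun hφ (ψ y)
    have h2 := LinearMap.congr_fun hψ y
    simp only [LinearMap.comp_apply, LinearEquiv.coe_coe, Submodule.mkQ_apply] at h1 h2
    rw [h1, h2, LinearEquiv.apply_symm_apply]

theorem free_of_rank (hR : LGRing.IsLGRing R) (d : ℕ)
    (hd : ∀ p : PrimeSpectrum R, Module.rankAtStalk M p = d) : Module.Free R M := by
  rcases subsingleton_or_nontrivial R with _ | _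
  · exact Module.Free.of_subsingleton' R M
  obtain ⟨e⟩ := nonempty_equiv_of_rank (M := M) (N := Fin d → R) hR fun m _ => by
    rw [hd, Module.rankAtStalk_eq_finrank_of_free, Module.finrank_fin_fun]
    rfl
  exact Module.Free.of_equiv e.symm

theorem exists_unimodular (hR : LGRing.IsLGRing R) [FaithfulSMul R M] :
    ∃ (m : M) (f : Module.Dual R M), f m = 1 := by
  classical
  obtain ⟨a, d, c, -, -, hdc⟩ := Module.Finite.exists_comp_eq_id_of_projective R M
  let P : MvPolynomial (Fin a ⊕ Fin a) R :=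
    ∑ i, ∑ j, C (c (d (Pi.single j 1)) i) * X (Sum.inl i) * X (Sum.inr j)
  have heval : ∀ s, eval s P = ∑ i, s (Sum.inl i) * c (d (fun j => s (Sum.inr j))) i := by
    intro s
    simp only [P, map_sum, map_mul, eval_C, eval_X]
    refine Finset.sum_congr rfl fun i _ => ?_
    conv_rhs => rw [pi_eq_sum_univ' (fun j => s (Sum.inr j))]
    simp only [map_sum, map_smul, Finset.sum_apply, Pi.smul_apply, smul_eq_mul, Finset.mul_sum]
    exact Finset.sum_congr rfl fun j _ => by ring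
  obtain ⟨s, hs⟩ := exists_isUnit_eval hR P fun m hm => by
    by_contra hall
    push Not at hall
    have htop : ∀ x : M, x ∈ m • (⊤ : Submodule R M) := fun x => mem_smul_top_of_coord c d hdc m fun i => by
      have := hall (Sum.elim (Pi.single i 1) (c x))
      rw [heval] at this
      simpa [Sum.elim_inl, show d (c x) = x from LinearMap.congr_fun hdc x, Pi.single_apply] using this
    obtain ⟨r, hr1, hr2⟩ := Submodule.exists_sub_one_mem_and_smul_eq_zero_of_fg_of_le_smul m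
      (⊤ : Submodule R M) Module.Finite.fg_top fun x _ => htop x
    have hr0 : r = 0 := eq_of_smul_eq_smul (α := M) fun x => by rw [hr2 x trivial, zero_smul]
    exact hm.ne_top (m.eq_top_iff_one.mpr (by simpa [hr0] using hr1))
  rw [heval] at hs
  obtain ⟨u, hu⟩ := hs
  refine ⟨d (fun j => s (Sum.inr j)),
    ((↑u⁻¹ : R) • ∑ i, s (Sum.inl i) • (LinearMap.proj i ∘ₗ c) : Module.Dual R M), ?_⟩
  simp [LinearMap.sum_apply, ← hu]

theorem cancel_pi (hR : LGRing.IsLGRing R) (n : ℕ) (hn : 0 < n) (e : (Fin n → M) ≃ₗ[R] (Fin n → N)) :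
    Nonempty (M ≃ₗ[R] N) := by
  refine nonempty_equiv_of_rank hR fun m _ => ?_
  have h1 := congrFun (Module.rankAtStalk_eq_of_equiv e) ⟨m, inferInstance⟩
  rw [Module.rankAtStalk_pi, Module.rankAtStalk_pi, finsum_eq_sum_of_fintype, finsum_eq_sum_of_fintype,
    Finset.sum_const, Finset.sum_const, Finset.card_univ, Fintype.card_fin, smul_eq_mul, smul_eq_mul] at h1
  exact Nat.eq_of_mul_eq_mul_left hn h1

theorem cancel_tensor (hR : LGRing.IsLGRing R) {L : Type*} [AddCommGroup L] [Module R L] [Module.Finite R L]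
    [Module.Projective R L] [FaithfulSMul R L] (e : M ⊗[R] L ≃ₗ[R] N ⊗[R] L) :
    Nonempty (M ≃ₗ[R] N) := by
  refine nonempty_equiv_of_rank hR fun m _ => ?_
  have h1 := congrFun (Module.rankAtStalk_eq_of_equiv e) ⟨m, inferInstance⟩
  rw [Module.rankAtStalk_tensorProduct, Module.rankAtStalk_tensorProduct, Pi.mul_apply, Pi.mul_apply] at h1
  refine Nat.eq_of_mul_eq_mul_right ?_ h1
  rw [Module.rankAtStalk_pos_iff_mem_support, Module.support_eq_zeroLocus]
  intro r hr
  rw [SetLike.mem_coe, Module.mem_annihilator] at hr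
  rw [show r = 0 from eq_of_smul_eq_smul (α := L) fun x => by rw [hr x, zero_smul]]
  exact zero_mem _

end LGLib
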