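import Groth.Agent.LGLib.Basic
import Mathlib.RingTheory.Spectrum.Prime.Topology
import Mathlib.LinearAlgebra.SymmetricAlgebra.Basic
import Mathlib.AlgebraicGeometry.Scheme
import Mathlib.Algebra.MvPolynomial.Funext

/-!
# LG-rings: points of quasi-compact open subschemes
-/

namespace LGLib

open AlgebraicGeometry MvPolynomial

universe u v

variable {R : Type u} [CommRing R]

lemma exists_basicOpen_cover {A : Type u} [CommRing A] (U : (Spec (CommRingCat.of A)).Opens)
    (hU : IsCompact (U : Set ↥(Spec (CommRingCat.of A)))) :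
    ∃ F : Finset A, ∀ P : PrimeSpectrum A, P ∈ U ↔ ∃ f ∈ F, f ∉ P.asIdeal := by
  classical
  have hcov : (U.1 : Set (PrimeSpectrum A)) ⊆ ⋃ f : {f : A // (PrimeSpectrum.basicOpen f : Set (PrimeSpectrum A)) ⊆ U.1},
      (PrimeSpectrum.basicOpen f.1 : Set (PrimeSpectrum A)) := by
    intro P hP
    obtain ⟨V, ⟨f, rfl⟩, hPV, hVU⟩ :=
      (PrimeSpectrum.isTopologicalBasis_basic_opens (R := A)).exists_subset_of_mem_open hP U.isOpen
    exact Set.mem_iUnion.mpr ⟨⟨f, hVU⟩, hPV⟩
  obtain ⟨t, ht⟩ := hU.elim_finite_subcover _ (fun f : {f : A //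
    (PrimeSpectrum.basicOpen f : Set (PrimeSpectrum A)) ⊆ U.1} => (PrimeSpectrum.basicOpen f.1).isOpen) hcov
  refine ⟨t.image Subtype.val, fun P => ⟨fun hP => ?_, ?_⟩⟩
  · obtain ⟨f, hf, hPf⟩ := Set.mem_iUnion₂.mp (ht hP)
    exact ⟨f.1, Finset.mem_image_of_mem _ hf, hPf⟩
  · rintro ⟨g, hg, hgP⟩
    obtain ⟨f, -, rfl⟩ := Finset.mem_image.mp hg
    exact f.2 hgP

lemma range_subset_iff {A B : Type u} [CommRing A] [CommRing B] (U : (Spec (CommRingCat.of A)).Opens)
    (F : Finset A) (hF : ∀ P : PrimeSpectrum A, P ∈ U ↔ ∃ f ∈ F, f ∉ P.asIdeal) (φ : A →+* B) :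
    Set.range (Spec.map (CommRingCat.ofHom φ)).base ⊆ (U : Set ↥(Spec (CommRingCat.of A))) ↔
      ∀ P : PrimeSpectrum B, ∃ f ∈ F, φ f ∉ P.asIdeal := by
  constructor
  · exact fun h P => (hF _).mp (h ⟨P, rfl⟩)
  · rintro h _ ⟨P, rfl⟩
    exact (hF _).mpr (h P)

lemma exists_point (hR : LGRing.IsLGRing R) {A : Type v} [CommRing A] {n : ℕ} (g : A →+* MvPolynomial (Fin n) R)
    (F : Finset A) (h : ∀ m : Ideal R, m.IsMaximal → ∃ s : Fin n → R, ∃ f ∈ F, eval s (g f) ∉ m) :
    ∃ s : Fin n → R, ∀ P : PrimeSpectrum R, ∃ f ∈ F, eval s (g f) ∉ P.asIdeal := by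
  classical
  let e : F ≃ Fin (Fintype.card F) := Fintype.equivFin F
  let P : MvPolynomial (Fin n ⊕ Fin (Fintype.card F)) R := ∑ f : F, X (Sum.inr (e f)) * rename Sum.inl (g f)
  have heval : ∀ s, eval s P = ∑ f : F, s (Sum.inr (e f)) * eval (s ∘ Sum.inl) (g f) := fun s => by
    simp only [P, map_sum, map_mul, eval_X, eval_rename]
  obtain ⟨s, hs⟩ := exists_isUnit_eval hR P fun m hm => by
    obtain ⟨s, f, hf, hsf⟩ := h m hm
    refine ⟨Sum.elim s (Pi.single (e ⟨f, hf⟩) 1), ?_⟩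
    rw [heval, Finset.sum_eq_single ⟨f, hf⟩ (fun f' _ hne => by simp [Pi.single_eq_of_ne (e.injective.ne hne)])
      (by simp)]
    simpa using hsf
  refine ⟨s ∘ Sum.inl, fun Q => ?_⟩
  by_contra hall
  push Not at hall
  rw [heval] at hs
  exact Q.isPrime.ne_top (Ideal.eq_top_of_isUnit_mem _
    (Q.asIdeal.sum_mem fun (f : F) _ => Q.asIdeal.mul_mem_left _ (hall f.1 f.2)) hs)

variable {M : Type v} [AddCommGroup M] [Module R M] {n : ℕ} (d : (Fin n → R) →ₗ[R] M) (c : M →ₗ[R] Fin n → R)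

/-- The universal point of the vector bundle, in coordinates. -/
noncomputable def coordPoly : SymmetricAlgebra R (Module.Dual R M) →ₐ[R] MvPolynomial (Fin n) R :=
  SymmetricAlgebra.lift
    { toFun := fun ξ => ∑ i, C (ξ (d (Pi.single i 1))) * X i
      map_add' := fun a b => by simp [add_mul, Finset.sum_add_distrib]
      map_smul' := fun r a => by simp [Finset.smul_sum, MvPolynomial.smul_eq_C_mul, mul_assoc] }

/-- The point with coordinates `s`. -/
noncomputable def pointOf (s : Fin n → R) : Module.Dual R M →ₗ[R] R := LinearMap.applyₗ (d s)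

lemma eval_coordPoly (s : Fin n → R) (a : SymmetricAlgebra R (Module.Dual R M)) :
    eval s (coordPoly d a) = SymmetricAlgebra.lift (pointOf d s) a := by
  have h : (MvPolynomial.aeval s).comp (coordPoly d) = SymmetricAlgebra.lift (pointOf d s) :=
    SymmetricAlgebra.algHom_ext (LinearMap.ext fun ξ => by
      simp only [LinearMap.comp_apply, AlgHom.toLinearMap_apply, AlgHom.comp_apply, coordPoly,
        SymmetricAlgebra.lift_ι_apply, LinearMap.coe_mk, AddHom.coe_mk, pointOf, LinearMap.applyₗ_apply_apply]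
      conv_rhs => rw [pi_eq_sum_univ' s]
      simp [mul_comm])
  rw [← h]
  simp [MvPolynomial.aeval_eq_eval₂Hom]

lemma dual_eq_sum (hdc : d ∘ₗ c = LinearMap.id) (ξ : Module.Dual R M) :
    ξ = ∑ i, ξ (d (Pi.single i 1)) • (LinearMap.proj i ∘ₗ c : Module.Dual R M) := by
  refine LinearMap.ext fun y => ?_
  conv_lhs => rw [← show d (c y) = y from LinearMap.congr_fun hdc y, pi_eq_sum_univ' (c y)]
  simp [mul_comm]

lemma eval_lift_mk {n : ℕ} (m : Ideal R) (x : Fin n → R ⧸ m) (s : Fin n → R)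
    (hs : ∀ i, Ideal.Quotient.mk m (s i) = x i) (f : MvPolynomial (Fin n) R) :
    eval₂Hom (Ideal.Quotient.mk m) x f = Ideal.Quotient.mk m (eval s f) := by
  rw [show x = fun i => Ideal.Quotient.mk m (s i) from funext fun i => (hs i).symm]
  exact (MvPolynomial.eval₂_comp (Ideal.Quotient.mk m) s f).symm

lemma lift_mk_eq (m : Ideal R) (hdc : d ∘ₗ c = LinearMap.id) (ψ : Module.Dual R M →ₗ[R] R ⧸ m) :
    ∃ s : Fin n → R, ∀ a, SymmetricAlgebra.lift ψ a = Ideal.Quotient.mk m (SymmetricAlgebra.lift (pointOf d s) a) := by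
  choose s hs using fun i => Ideal.Quotient.mk_surjective (ψ (LinearMap.proj i ∘ₗ c))
  refine ⟨s, fun a => ?_⟩
  have h : SymmetricAlgebra.lift ψ = (Ideal.Quotient.mkₐ R m).comp (SymmetricAlgebra.lift (pointOf d s)) :=
    SymmetricAlgebra.algHom_ext (LinearMap.ext fun ξ => by
      change SymmetricAlgebra.lift ψ (SymmetricAlgebra.ι R _ ξ) =
        Ideal.Quotient.mk m (SymmetricAlgebra.lift (pointOf d s) (SymmetricAlgebra.ι R _ ξ))
      rw [SymmetricAlgebra.lift_ι_apply, SymmetricAlgebra.lift_ι_apply]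
      change ψ ξ = Ideal.Quotient.mk m (ξ (d s))
      conv_lhs => rw [dual_eq_sum d c hdc ξ]
      conv_rhs => rw [pi_eq_sum_univ' s]
      simp only [_root_.map_sum]
      refine Finset.sum_congr rfl fun i _ => ?_
      rw [map_smul, map_smul, map_smul, ← hs, smul_eq_mul, map_mul, Algebra.smul_def,
        Ideal.Quotient.algebraMap_eq, mul_comm])
  rw [h]
  rfl

lemma coordPoly_retraction (hdc : d ∘ₗ c = LinearMap.id) (a : SymmetricAlgebra R (Module.Dual R M)) :
    MvPolynomial.aeval (fun i => SymmetricAlgebra.ι R (Module.Dual R M) (LinearMap.proj i ∘ₗ c)) (coordPoly d a) = a := by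
  have h : (MvPolynomial.aeval fun i => SymmetricAlgebra.ι R (Module.Dual R M) (LinearMap.proj i ∘ₗ c)).comp
      (coordPoly d) = AlgHom.id R _ :=
    SymmetricAlgebra.algHom_ext (LinearMap.ext fun ξ => by
      simp only [LinearMap.comp_apply, AlgHom.toLinearMap_apply, AlgHom.comp_apply, coordPoly,
        SymmetricAlgebra.lift_ι_apply, LinearMap.coe_mk, AddHom.coe_mk, AlgHom.id_apply]
      conv_rhs => rw [dual_eq_sum d c hdc ξ]
      simp [Algebra.smul_def])
  exact AlgHom.congr_fun h a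

end LGLib
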